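import Cfsg.Agent.Lib.ThreeFree.ClosedSubgroup
import Cfsg.Agent.Lib.GoldschmidtGroup.General
import Cfsg.Agent.Lib.LocalEven.InvolvesFour
import Cfsg.Agent.S2755

/-!
Consumers of Goldschmidt's theorem on strongly closed abelian 2-subgroups: simple groups without a
section `S₄`, resp. `S₃`.
-/

set_option autoImplicit false
set_option linter.style.haveILetI false

namespace CfsgLib.GoldCons74

open Subgroup Cfsg

universe u

/-- Goldschmidt's theorem for simple groups: a non-abelian simple group with a nontrivial abelian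
subgroup of a Sylow 2-subgroup strongly closed in it is a Goldschmidt group. -/
def GoldschmidtSimple : Prop :=
  ∀ (G : Type u) [Group G] [Finite G] [IsSimpleGroup G], ¬ IsMulCommutative G →
    ∀ (S : Sylow 2 G) (A : Subgroup G), A ≠ ⊥ → IsMulCommutative A →
      Cfsg.IsStronglyClosed A (S : Subgroup G) → Cfsg.IsGoldschmidtGroup G

variable {G : Type u} [Group G] [Finite G]

omit [Finite G] in
theorem exists_noncomm (h : ¬ IsMulCommutative G) : ∃ a b : G, a * b ≠ b * a := by
  by_contra hc
  push Not at hc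
  exact h ⟨⟨hc⟩⟩

/-- An `S₄`-free group of even order has a nontrivial elementary abelian strongly closed 2-subgroup. -/
theorem exists_closed (h2 : 2 ∣ Nat.card G) (hfree : ¬ Involves (Equiv.Perm (Fin 4)) G)
    (S : Sylow 2 G) :
    ∃ A : Subgroup G, A ≠ ⊥ ∧ IsElementaryAbelian 2 A ∧ IsStronglyClosed A (S : Subgroup G) := by
  haveI : Fact (Nat.Prime 2) := ⟨Nat.prime_two⟩
  obtain ⟨W, hW, hWlo, hWhi, hctrl⟩ := CfsgLib.SFour.exists_char_controls
    (fun _ W h1 h2 h3 => CfsgLib.SFour.exists_ctrl W h1 h2 h3) hfree S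
  set W' := W.map (S : Subgroup G).subtype with hW'
  have hW'S : W' ≤ (S : Subgroup G) := map_subtype_le _
  have hel : Cfsg.IsElementaryAbelian 2 W' := by
    rw [CfsgLib.PLocal.centerThompsonOf_eq] at hWhi
    obtain ⟨hcom, hsq⟩ := CfsgLib.PLocal.omegaOne_centerJ_elemAb 2 (S : Subgroup G)
    exact ⟨⟨⟨fun a b => Subtype.ext (congrArg Subtype.val
      (hcom.is_comm.comm ⟨a, hWhi a.2⟩ ⟨b, hWhi b.2⟩) :)⟩⟩, fun a ha => hsq a (hWhi ha)⟩
  haveI : Nontrivial (S : Subgroup G) :=
    (Subgroup.nontrivial_iff_ne_bot _).2 (S.ne_bot_of_dvd_card h2)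
  refine ⟨W', fun hbot => ?_, hel, hW'S, fun a ha g hg => ?_⟩
  · obtain ⟨z, -, hz, hzo⟩ := CfsgLib.PGroupBasic.exists_central_orderOf_eq S.2
      (⊤ : Subgroup (S : Subgroup G)) top_ne_bot
    have hz' : (z : G) ∈ W' := hWlo (subset_closure ⟨⟨z, hz, rfl⟩, by
      have := pow_orderOf_eq_one z
      rw [hzo] at this
      exact congrArg Subtype.val this⟩)
    rw [hbot, mem_bot] at hz'
    rw [show z = 1 from Subtype.ext hz', orderOf_one] at hzo
    omega
  · obtain ⟨-, h⟩ := hctrl {a} (Set.singleton_subset_iff.2 (hW'S ha))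
    obtain ⟨x, hx, hxa⟩ := h g (by rw [Set.image_singleton, Set.singleton_subset_iff]; exact hg)
    rw [hxa a rfl]
    exact (mem_normalizer_iff.1 hx a).1 ha

/-- `S₄`-free non-abelian simple groups are Goldschmidt groups. -/
theorem goldschmidt_of_four_free (hGS : GoldschmidtSimple.{u}) [IsSimpleGroup G]
    (hna : ¬ IsMulCommutative G) (hfree : ¬ Involves (Equiv.Perm (Fin 4)) G) :
    IsGoldschmidtGroup G := by
  obtain ⟨S⟩ : Nonempty (Sylow 2 G) := inferInstance
  obtain ⟨A, hA1, hAel, hsc⟩ :=
    exists_closed (CfsgLib.ThreeFree.even_card_of_simple (exists_noncomm hna)) hfree S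
  exact hGS G hna S A hA1 hAel.1 hsc

/-- `S₃`-free non-abelian simple groups are Suzuki groups or `PSL₂(3^odd)`. -/
theorem target_of_three_free (hGS : GoldschmidtSimple.{u}) [IsSimpleGroup G]
    (hna : ¬ IsMulCommutative G) (hfree : ¬ Involves (Equiv.Perm (Fin 3)) G) :
    IsSuzukiOrPSL2OddPowerThree G :=
  (Cfsg.Agent.S2755.result (goldschmidt_of_four_free hGS hna
    (CfsgLib.GoldschmidtGroup.not_involves_four_of_three hfree))).2.1 hfree

omit [Finite G] in
/-- A section of a section is a section. -/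
theorem not_involves_section {D : Type*} [Group D] (h : ¬ Involves D G) (H : Subgroup G)
    (N : Subgroup H) [N.Normal] : ¬ Involves D (↥H ⧸ N) := fun hi => by
  obtain ⟨K, f, hf⟩ := CfsgLib.LocalEven.Involved.exists_hom_of_involves hi
  refine h (CfsgLib.LocalEven.Involved.involves_of_subgroup (H := H) ?_)
  refine CfsgLib.LocalEven.Involved.involves_of_hom (K.comap (QuotientGroup.mk' N))
    (f.comp ((QuotientGroup.mk' N).subgroupComap K)) ?_
  exact hf.comp (MonoidHom.subgroupComap_surjective_of_surjective _ _ (QuotientGroup.mk'_surjective N))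

/-- In an `S₃`-free group every non-abelian simple section is a Suzuki group or `PSL₂(3^odd)`. -/
theorem kGroupWith_of_three_free (hGS : GoldschmidtSimple.{u})
    (hfree : ¬ Involves (Equiv.Perm (Fin 3)) G) :
    IsKGroupWith IsSuzukiOrPSL2OddPowerThree G := fun H N _ hs hn => by
  haveI := hs
  exact target_of_three_free hGS hn (not_involves_section hfree H N)

end CfsgLib.GoldCons74
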