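import Cfsg.Agent.Lib.GoldCons74.OuterCyclic
import Cfsg.Agent.Lib.OddOrder.PuigSeries
import Cfsg.Agent.Lib.Structure.NilpotentMaximal
import Cfsg.Agent.Lib.Structure80.FixedProduct

/-!
Fixed-point-free operator groups with a normal coprime part and nilpotent quotient on `S₃`-free
groups: the simple case, lifting fixed points through an abelian normal subgroup, and the product over a
permuted family of simple factors.
-/

set_option autoImplicit false
set_option linter.style.haveILetI false

namespace CfsgLib.GoldCons74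

open Subgroup Cfsg
open CfsgLib.Structure80.FixedProduct (restrictHom quotHom stab)
open scoped commutatorElement

universe u v

variable {A : Type v} [Group A] [Finite A]

omit [Finite A] in
/-- An operator group with normal coprime part and nilpotent quotient fixes a nontrivial element of a
simple group with one class of involutions and cyclic outer automorphism group. -/
theorem exists_fixed_simple {S : Type u} [Group S] [Finite S] [IsSimpleGroup S]
    (hna : ¬ IsMulCommutative S) (hconj : ∀ x y : S, orderOf x = 2 → orderOf y = 2 → IsConj x y)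
    (hout : IsCyclic (Cfsg.Out S)) (β : A →* MulAut S) (K : Subgroup A) [K.Normal]
    (hco : (Nat.card K).Coprime (Nat.card S)) (hnil : Group.IsNilpotent (A ⧸ K)) :
    ∃ s : S, s ≠ 1 ∧ ∀ a, β a s = s := by
  haveI : Fact (Nat.Prime 2) := ⟨Nat.prime_two⟩
  obtain ⟨a0, b0, hab⟩ := exists_noncomm hna
  have hcent : center S = ⊥ := by
    rcases IsSimpleGroup.eq_bot_or_eq_top_of_normal (center S) inferInstance with h | h
    · exact h
    · exact absurd (mem_center_iff.1 (h ▸ mem_top a0 : a0 ∈ center S) b0).symm hab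
  have hinj : Function.Injective (MulAut.conj : S →* MulAut S) := by
    rw [← MonoidHom.ker_eq_bot_iff, eq_bot_iff]
    intro x hx
    rw [← hcent, mem_center_iff]
    intro y
    have := MulEquiv.congr_fun (show MulAut.conj x = 1 from hx) y
    simp only [MulAut.conj_apply, MulAut.one_apply] at this
    exact (mul_inv_eq_iff_eq_mul.1 this).symm
  have hKI : ∀ k ∈ K, β k ∈ Cfsg.Inn S → β k = 1 := fun k hk ⟨z, hz⟩ => by
    have h1 : orderOf (β k) ∣ Nat.card K :=
      (orderOf_map_dvd β k).trans (Subgroup.orderOf_dvd_natCard K hk)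
    have h2 : orderOf (β k) ∣ Nat.card S := by
      rw [← hz, orderOf_injective MulAut.conj hinj]
      exact orderOf_dvd_natCard z
    exact orderOf_eq_one_iff.1 (Nat.eq_one_of_dvd_coprimes hco h1 h2)
  set I := (Cfsg.Inn S).comap β with hI
  by_cases hIL : I ≤ K ⊔ β.ker
  · -- `β(A)` embeds in the cyclic outer automorphism group
    have hIker : ∀ a, β a ∈ Cfsg.Inn S → β a = 1 := fun a ha => by
      obtain ⟨k, hk, z, hz, rfl⟩ := mem_sup_of_normal_left.1 (hIL (show a ∈ I from ha))
      rw [map_mul, MonoidHom.mem_ker.1 hz, mul_one] at ha ⊢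
      exact hKI k hk ha
    haveI := hout
    let π : β.range →* Cfsg.Out S := (QuotientGroup.mk' _).comp β.range.subtype
    have hπ : Function.Injective π := by
      rw [← MonoidHom.ker_eq_bot_iff, eq_bot_iff]
      rintro ⟨_, a, rfl⟩ ha
      exact Subtype.ext (hIker a ((QuotientGroup.eq_one_iff _).1 ha))
    haveI := isCyclic_of_injective π hπ
    obtain ⟨⟨α, a1, ha1⟩, hgen⟩ := IsCyclic.exists_generator (α := β.range)
    have hfix : ∀ s : S, β a1 s = s → ∀ a, β a s = s := fun s hs a => by
      obtain ⟨k, hk⟩ := hgen ⟨β a, a, rfl⟩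
      have hk' : α ^ k = β a := congrArg Subtype.val hk
      have : a1 ^ k ∈ stab β s := zpow_mem (show a1 ∈ stab β s from hs) k
      rw [← hk', ← ha1, ← map_zpow]
      exact this
    by_contra hno
    push Not at hno
    have hbij : Function.Bijective (fun x : S => x⁻¹ * β a1 x) := by
      refine Finite.injective_iff_bijective.1 fun x y hxy => ?_
      by_contra hne
      obtain ⟨a, ha⟩ := hno (y * x⁻¹) (fun e => hne (mul_inv_eq_one.1 e).symm)
      refine ha (hfix _ ?_ a)
      have h' : x⁻¹ * β a1 x = y⁻¹ * β a1 y := hxy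
      calc β a1 (y * x⁻¹) = β a1 y * (β a1 x)⁻¹ := by rw [map_mul, map_inv]
        _ = y * (y⁻¹ * β a1 y) * (x⁻¹ * β a1 x)⁻¹ * x⁻¹ := by group
        _ = y * x⁻¹ := by rw [h']; group
    obtain ⟨z0, hz0⟩ := exists_prime_orderOf_dvd_card' 2
      (CfsgLib.ThreeFree.even_card_of_simple (exists_noncomm hna))
    have hz0' : orderOf (β a1 z0) = 2 := (orderOf_injective (β a1).toMonoidHom (β a1).injective z0).trans hz0
    obtain ⟨n, hn⟩ := isConj_iff.1 (hconj z0 (β a1 z0) hz0 hz0')
    obtain ⟨x, hx⟩ := hbij.2 n⁻¹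
    have hx' : β a1 x = x * n⁻¹ := by rw [← hx]; group
    obtain ⟨a, ha⟩ := hno (x * z0 * x⁻¹) (fun e => by
      rw [conj_eq_one_iff] at e
      rw [e, orderOf_one] at hz0
      omega)
    refine ha (hfix _ ?_ a)
    rw [map_mul, map_mul, map_inv, hx', ← hn]
    group
  · -- `β(A)` contains an inner automorphism central in it
    set L := K ⊔ β.ker with hL
    let g : A ⧸ K →* A ⧸ L := QuotientGroup.map K L (MonoidHom.id A) (fun a ha => mem_sup_left ha)
    have hg : Function.Surjective g := fun q => by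
      induction q using QuotientGroup.induction_on with
      | H a => exact ⟨(a : A ⧸ K), rfl⟩
    haveI := hnil
    haveI : Group.IsNilpotent (A ⧸ L) := Group.nilpotent_of_surjective g hg
    haveI : (I.map (QuotientGroup.mk' L)).Normal :=
      Subgroup.Normal.map inferInstance _ (QuotientGroup.mk'_surjective L)
    have hne := CfsgLib.OddOrder.PuigSeries.inf_center_ne_bot (I.map (QuotientGroup.mk' L))
      (fun h => hIL (by rwa [Subgroup.map_eq_bot_iff, QuotientGroup.ker_mk'] at h))
    obtain ⟨⟨y, hyc, i, hi, hiy⟩, hy'⟩ := Subgroup.ne_bot_iff_exists_ne_one.1 hne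
    have hy : y ≠ 1 := fun e => hy' (Subtype.ext e)
    obtain ⟨z, hz⟩ := hi
    have hcomm : ∀ b, β b * β i = β i * β b := fun b => by
      have h1 : ⁅b, i⁆ ∈ L := (QuotientGroup.eq_one_iff _).1 (by
        show QuotientGroup.mk' L ⁅b, i⁆ = 1
        rw [map_commutatorElement, hiy, commutatorElement_eq_one_iff_mul_comm]
        exact mem_center_iff.1 hyc _)
      obtain ⟨k, hk, w, hw, hkw⟩ := mem_sup_of_normal_left.1 h1
      have h2 : β ⁅b, i⁆ = β k := by rw [← hkw, map_mul, MonoidHom.mem_ker.1 hw, mul_one]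
      rw [← commutatorElement_eq_one_iff_mul_comm, ← map_commutatorElement, h2]
      refine hKI k hk (h2 ▸ ?_)
      rw [map_commutatorElement, commutatorElement_def]
      exact mul_mem ((Cfsg.innNormal S).conj_mem _ ⟨z, hz⟩ (β b)) (inv_mem ⟨z, hz⟩)
    refine ⟨z, fun e => hy ?_, fun a => hinj ?_⟩
    · rw [← hiy]
      refine (QuotientGroup.eq_one_iff _).2 (mem_sup_right ?_)
      rw [MonoidHom.mem_ker, ← hz, e, map_one]
    · have h1 : MulAut.conj (β a z) = β a * MulAut.conj z * (β a)⁻¹ := MulEquiv.ext fun x => by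
        simp [MulAut.mul_apply, MulAut.inv_apply]
      rw [h1, hz, hcomm a, mul_inv_cancel_right]

variable {G : Type u} [Group G] [Finite G]

/-- Fixed points lift through a nontrivial abelian invariant normal subgroup of prime exponent. -/
theorem mem_of_quot_fixed (φ : A →* MulAut G) (hfpf : ∀ g : G, (∀ a, φ a g = g) → g = 1)
    (K : Subgroup A) [K.Normal] {p : ℕ} [Fact p.Prime] (hpK : ¬ p ∣ Nat.card K)
    (hnil : Group.IsNilpotent (A ⧸ K)) (N : Subgroup G) [IsMulCommutative N]
    (hexp : ∀ x ∈ N, x ^ p = 1) (hNinv : ∀ a, ∀ x ∈ N, φ a x ∈ N)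
    {x : G} (hx : ∀ a, x⁻¹ * φ a x ∈ N) : x ∈ N := by
  classical
  haveI := hnil
  obtain ⟨P0, R, hRn, hRc⟩ := CfsgLib.NilpotentMaximal.hasNormalPComplement_of_isNilpotent (G := A ⧸ K) p
  set L := R.comap (QuotientGroup.mk' K) with hLdef
  haveI : L.Normal := hRn.comap _
  have hLcard : ¬ p ∣ Nat.card L := by
    have hLK : L.map (QuotientGroup.mk' K) = R :=
      Subgroup.map_comap_eq_self_of_surjective (QuotientGroup.mk'_surjective K) R
    have h1 := Subgroup.card_mul_index L
    have h2 := Subgroup.card_mul_index R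
    have hidx : L.index = R.index := Subgroup.index_comap_of_surjective R (QuotientGroup.mk'_surjective K)
    rw [hidx, ← Subgroup.card_mul_index K, show K.index = Nat.card (A ⧸ K) from rfl, ← h2,
      ← mul_assoc] at h1
    have h3 : Nat.card L = Nat.card K * Nat.card R :=
      Nat.eq_of_mul_eq_mul_right (Nat.pos_of_ne_zero Subgroup.index_ne_zero_of_finite) h1
    rw [h3, (Fact.out : p.Prime).dvd_mul, not_or]
    refine ⟨hpK, fun hd => P0.not_dvd_index ?_⟩
    rwa [hRc.index_eq_card]
  obtain ⟨P⟩ : Nonempty (Sylow p A) := inferInstance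
  have htop : ∀ y : G, (∀ l ∈ L, φ l y = y) → (∀ a ∈ P, φ a y = y) → ∀ a, φ a y = y := by
    intro y hL hP a
    suffices h : stab φ y = ⊤ from (h ▸ mem_top a : a ∈ stab φ y)
    have h1 : L ≤ stab φ y := fun l hl => hL l hl
    have h2 : (P : Subgroup A) ≤ stab φ y := fun l hl => hP l hl
    refine Subgroup.index_eq_one.1 (Nat.eq_one_of_dvd_coprimes ?_ (index_dvd_of_le h1) (index_dvd_of_le h2))
    have h3 : L.index = Nat.card P0 := by
      rw [show L.index = R.index from Subgroup.index_comap_of_surjective R (QuotientGroup.mk'_surjective K),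
        hRc.symm.index_eq_card]
    rw [h3, P0.card_eq_multiplicity]
    exact Nat.Coprime.pow_left _ (((Fact.out : p.Prime).coprime_iff_not_dvd).2 P.not_dvd_index)
  -- fixed points of `L` in `N` are trivial
  have huniq : ∀ u ∈ N, (∀ l ∈ L, φ l u = u) → u = 1 := by
    intro u hu hLu
    let C : Subgroup G :=
      { carrier := {y | y ∈ N ∧ ∀ l ∈ L, φ l y = y}
        one_mem' := ⟨one_mem _, fun l _ => map_one _⟩
        mul_mem' := fun ha hb => ⟨mul_mem ha.1 hb.1, fun l hl => by rw [map_mul, ha.2 l hl, hb.2 l hl]⟩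
        inv_mem' := fun ha => ⟨inv_mem ha.1, fun l hl => by rw [map_inv, ha.2 l hl]⟩ }
    have hCinv : ∀ a : (P : Subgroup A), ∀ y ∈ C, φ a y ∈ C := fun a y hy => by
      refine ⟨hNinv _ y hy.1, fun l hl => ?_⟩
      have := hy.2 ((a : A)⁻¹ * l * a) (by simpa using (inferInstance : L.Normal).conj_mem l hl (a : A)⁻¹)
      conv_rhs => rw [← this]
      rw [← MulAut.mul_apply, ← map_mul, ← MulAut.mul_apply, ← map_mul]
      congr 2
      group
    by_contra hu1
    haveI : Nontrivial C := (Subgroup.nontrivial_iff_ne_bot C).2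
      (fun h => hu1 (mem_bot.1 (h ▸ (show u ∈ C from ⟨hu, hLu⟩))))
    have hCp : IsPGroup p C := fun y => ⟨1, Subtype.ext (by simpa using hexp _ y.2.1)⟩
    obtain ⟨k, hk⟩ := IsPGroup.iff_card.1 hCp
    have hk0 : k ≠ 0 := fun h => by
      rw [h, pow_zero] at hk
      exact (Finite.one_lt_card (α := C)).ne' hk
    letI : MulAction (P : Subgroup A) C :=
      MulAction.compHom C (restrictHom (φ.comp (P : Subgroup A).subtype) C hCinv)
    obtain ⟨c, hc, hc1⟩ := P.isPGroup'.exists_fixed_point_of_prime_dvd_card_of_fixed_point C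
      (hk ▸ dvd_pow_self p hk0) (a := 1) (fun a => map_one ((restrictHom (φ.comp (P : Subgroup A).subtype) C hCinv) a))
    refine hc1.symm (Subtype.ext (hfpf c (htop c c.2.2 fun a ha => ?_)))
    exact congrArg Subtype.val (hc ⟨a, ha⟩)
  -- the averaged element
  let c : A → N := fun a => ⟨x⁻¹ * φ a x, hx a⟩
  let act : A → N →* N := fun a => (restrictHom φ N hNinv a).toMonoidHom
  have hcoc : ∀ a b, c (a * b) = c a * act a (c b) := fun a b => Subtype.ext (by
    show x⁻¹ * φ (a * b) x = x⁻¹ * φ a x * φ a (x⁻¹ * φ b x)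
    rw [map_mul, MulAut.mul_apply, map_mul, map_inv]
    group)
  letI : Fintype L := Fintype.ofFinite _
  letI : CommGroup N := { (inferInstance : Group N) with mul_comm := fun a b => IsMulCommutative.is_comm.comm a b }
  set Pr : N := ∏ l : L, c l with hPr
  have hprod : ∀ a : L, Pr = c a ^ Nat.card L * act a Pr := fun a => by
    rw [hPr, map_prod]
    conv_lhs => rw [← Equiv.prod_comp (Equiv.mulLeft a)]
    simp only [Equiv.coe_mulLeft, Subgroup.coe_mul, hcoc]
    rw [Finset.prod_mul_distrib, Finset.prod_const, Finset.card_univ, Fintype.card_eq_nat_card]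
  obtain ⟨e, he⟩ : ∃ e : ℕ, Nat.card L * e ≡ 1 [MOD p] := by
    obtain ⟨e, -, he⟩ := Nat.exists_mul_mod_eq_one_of_coprime
      (((Fact.out : p.Prime).coprime_iff_not_dvd.2 hLcard).symm) (Fact.out : p.Prime).one_lt
    exact ⟨e, by rw [Nat.ModEq, he, Nat.one_mod_eq_one.2 (Fact.out : p.Prime).ne_one]⟩
  have hpow : ∀ w : N, w ^ (Nat.card L * e) = w := fun w => by
    conv_rhs => rw [← pow_one w]
    exact pow_eq_pow_iff_modEq.2 (he.of_dvd (orderOf_dvd_of_pow_eq_one (Subtype.ext (by
      simpa using hexp _ w.2))))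
  set y := x * ((Pr ^ e : N) : G) with hy
  have hyL : ∀ l ∈ L, φ l y = y := fun l hl => by
    have h1 : c l * act l (Pr ^ e) = Pr ^ e := by
      conv_lhs => rw [← hpow (c l), pow_mul, map_pow, ← mul_pow]
      rw [← hprod ⟨l, hl⟩]
    have h2 : x⁻¹ * φ l x * φ l ((Pr ^ e : N) : G) = ((Pr ^ e : N) : G) := congrArg Subtype.val h1
    rw [hy, map_mul]
    conv_rhs => rw [← h2]
    group
  have hyfix : ∀ a, φ a y = y := fun a => by
    have hmem : y⁻¹ * φ a y ∈ N := by
      rw [hy, map_mul, mul_inv_rev, show ((Pr ^ e : N) : G)⁻¹ * x⁻¹ * (φ a x * φ a ((Pr ^ e : N) : G)) =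
        ((Pr ^ e : N) : G)⁻¹ * (x⁻¹ * φ a x) * φ a ((Pr ^ e : N) : G) by group]
      exact mul_mem (mul_mem (inv_mem (SetLike.coe_mem _)) (hx a)) (hNinv a _ (SetLike.coe_mem _))
    refine (inv_mul_eq_one.1 (huniq _ hmem fun l hl => ?_)).symm
    rw [map_mul, map_inv, hyL l hl]
    congr 1
    have := hyL (a⁻¹ * l * a) (by simpa using (inferInstance : L.Normal).conj_mem l hl a⁻¹)
    conv_rhs => rw [← this]
    rw [← MulAut.mul_apply, ← map_mul, ← MulAut.mul_apply, ← map_mul]
    congr 2
    group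
  have hy1 : x * ((Pr ^ e : N) : G) = 1 := hfpf y hyfix
  rw [eq_inv_of_mul_eq_one_left hy1]
  exact inv_mem (SetLike.coe_mem _)

end CfsgLib.GoldCons74
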