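import Cfsg.Agent.Lib.GoldCons74.Closed
import Cfsg.Agent.Lib.LocalEven.InvFreeZJ
import Cfsg.Agent.Lib.DimThreeSub.Models
import Cfsg.Agent.Lib.InvChar.SmallSolvable
import Cfsg.Agent.S2752
import Cfsg.Agent.S2126

/-!
`S₃`-freeness from the absence of inverted 3-elements, and the shape of the simple groups in the conclusion.
-/

set_option autoImplicit false
set_option linter.style.haveILetI false

namespace CfsgLib.GoldCons74

open Subgroup Cfsg CfsgLib.LocalEven.Inversion

universe u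

variable {G : Type u} [Group G] [Finite G]

/-- Without inverted 3-elements there is no section `S₃`. -/
theorem three_free_of_invFree (h : InvFree 3 (⊤ : Subgroup G)) :
    ¬ Involves (Equiv.Perm (Fin 3)) G := fun hi => by
  obtain ⟨a, z, hz, haz⟩ := CfsgLib.GoldschmidtGroup.exists_inverted_three hi
  have hz1 := h z trivial a trivial ⟨1, by rw [hz, pow_one]⟩ haz
  rw [hz1, orderOf_one] at hz
  omega

/-- If `N(⟨x⟩) = C(x)` for every 3-element `x`, there is no section `S₃`. -/
theorem three_free_of_irreal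
    (hirr : ∀ x : G, (∀ r : ℕ, r.Prime → r ∣ orderOf x → r = 3) →
      normalizer ((zpowers x : Subgroup G) : Set G) ≤ centralizer {x}) :
    ¬ Involves (Equiv.Perm (Fin 3)) G := fun hi => by
  obtain ⟨a, z, hz, haz⟩ := CfsgLib.GoldschmidtGroup.exists_inverted_three hi
  have ha : a ∈ normalizer ((zpowers z : Subgroup G) : Set G) := by
    refine mem_normalizer_iff_map_conj_eq.2 ?_
    show (zpowers z).map (MulAut.conj a : G →* G) = _
    rw [MonoidHom.map_zpowers]
    show zpowers (a * z * a⁻¹) = _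
    rw [haz, zpowers_inv]
  have hc := mem_centralizer_singleton_iff.1
    (hirr z (fun r hr hd => (Nat.prime_dvd_prime_iff_eq hr Nat.prime_three).1 (hz ▸ hd)) ha)
  rw [hc, mul_inv_cancel_right] at haz
  have h2 : z ^ 2 = 1 := by rw [sq]; nth_rewrite 1 [haz]; exact inv_mul_cancel z
  have := orderOf_dvd_of_pow_eq_one h2
  rw [hz] at this
  norm_num at this

/-- If no element of a Sylow 3-subgroup is inverted in the normalizer of its `Z(J)`, there is no
section `S₃`. -/
theorem three_free_of_zj (T : Sylow 3 G)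
    (h : ∀ x ∈ (T : Subgroup G), x ≠ 1 →
      ∀ g ∈ normalizer (Cfsg.centerThompsonAOf (T : Subgroup G) : Set G), g * x * g⁻¹ ≠ x⁻¹) :
    ¬ Involves (Equiv.Perm (Fin 3)) G := by
  haveI : Fact (Nat.Prime 3) := ⟨Nat.prime_three⟩
  refine three_free_of_invFree (invFree_of_normalizer_zj (by norm_num) T ?_)
  intro z hz w hw ⟨k, hk⟩ he
  by_contra hz1
  have hTN := CfsgLib.PLocal.le_normalizer_zj 0 (T : Subgroup G)
  obtain ⟨u, hu, hle⟩ := CfsgLib.Techniques.exists_conj_le_sylow_of (p := 3)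
    (zpowers_le.2 hz) (IsPGroup.of_card (n := k) (by rw [Nat.card_zpowers, hk])) hTN T.2
    (fun hd => T.not_dvd_index (hd.trans (relIndex_dvd_index_of_le hTN)))
  have huz : u * z * u⁻¹ ∈ (T : Subgroup G) :=
    hle (CfsgLib.Techniques.conj_mem_map_conj u (mem_zpowers z))
  refine h _ huz (fun e => hz1 (by simpa using e)) (u * w * u⁻¹) ?_ ?_
  · rw [CfsgLib.PLocal.centerThompsonAOf_eq, ← CfsgLib.PLocal.zj_zero]
    exact mul_mem (mul_mem hu hw) (inv_mem hu)
  · calc u * w * u⁻¹ * (u * z * u⁻¹) * (u * w * u⁻¹)⁻¹ = u * (w * z * w⁻¹) * u⁻¹ := by group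
      _ = _ := by rw [he]; group

omit [Finite G] in
/-- A non-abelian simple `PSL₂(3^(2n+1))` has `n ≥ 1`. -/
theorem one_le_of_psl [IsSimpleGroup G] (hna : ¬ IsMulCommutative G) {F : Type} [Field F] [Fintype F]
    {n : ℕ} (hF : Fintype.card F = 3 ^ (2 * n + 1))
    (e : G ≃* Matrix.ProjectiveSpecialLinearGroup (Fin 2) F) : 1 ≤ n := by
  by_contra hn
  obtain rfl : n = 0 := by omega
  classical
  obtain ⟨φ, hφ⟩ := CfsgLib.ClassicalGroups.exists_injective_line (K := F) (n := 4)
    (by rw [hF]; norm_num)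
  haveI : Group.IsSolvable (Equiv.Perm (Fin 4)) := CfsgLib.InvCharSmall.isSolvable_perm_four
  haveI : Group.IsSolvable G := Group.isSolvable_of_isSolvable_injective
    (f := φ.comp e.toMonoidHom) (hφ.comp e.injective)
  exact hna (IsSimpleGroup.comm_iff_isSolvable.mpr inferInstance |> fun h => ⟨⟨h⟩⟩)

omit [Finite G] in
/-- The conclusion of the classification of the 3-irreal simple groups. -/
theorem conclusion_of_target [IsSimpleGroup G] (hna : ¬ IsMulCommutative G)
    (h : IsSuzukiOrPSL2OddPowerThree G) :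
    (∃ f : ℕ, 1 ≤ f ∧
      Nonempty (G ≃* Matrix.ProjectiveSpecialLinearGroup (Fin 2) (GaloisField 3 (2 * f + 1)))) ∨
    Cfsg.IsSuzuki G := by
  rcases h with ⟨F, _, _, m, hm, hF, ⟨e⟩⟩ | ⟨F, _, _, n, hF, ⟨e⟩⟩
  · obtain ⟨hchar, ⟨P⟩⟩ := CfsgLib.SuzukiGroup.exists_params hF
    haveI := hchar
    refine Or.inr ⟨inferInstance, m, hm, ?_⟩
    rw [Nat.card_congr e.toEquiv, CfsgLib.SuzukiGroup.card_sz P, hF]
    ring
  · refine Or.inl ⟨n, one_le_of_psl hna hF e, ?_⟩
    haveI : Fact (Nat.Prime 3) := ⟨Nat.prime_three⟩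
    letI : Fintype (GaloisField 3 (2 * n + 1)) := Fintype.ofFinite _
    exact ⟨e.trans (CfsgLib.DimThreeSub.pslEquiv 2 (FiniteField.ringEquivOfCardEq
      (by rw [hF, ← Nat.card_eq_fintype_card, GaloisField.card 3 _ (by omega)])))⟩

end CfsgLib.GoldCons74
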