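import Cfsg.Agent.Lib.GoldCons74.Fpf

/-!
Solvability of `S₃`-free groups with fixed-point-free operators, and the four consumers of Goldschmidt's
theorem for simple groups.
-/

set_option autoImplicit false
set_option linter.style.haveILetI false

namespace CfsgLib.GoldCons74

open Subgroup Cfsg
open CfsgLib.Structure80.FixedProduct (restrictHom quotHom)

universe u v

variable {A : Type v} [Group A] [Finite A] {G : Type u} [Group G] [Finite G]

omit [Finite A] [Finite G] in
theorem map_inv_char (φ : A →* MulAut G) {M : Subgroup G} (hM : ∀ a, ∀ x ∈ M, φ a x ∈ M)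
    (C : Subgroup M) [C.Characteristic] : ∀ a, ∀ x ∈ C.map M.subtype, φ a x ∈ C.map M.subtype := by
  rintro a _ ⟨x, hx, rfl⟩
  exact ⟨restrictHom φ M hM a x, (Subgroup.characteristic_iff_map_eq.1 inferInstance _).le
    (Subgroup.mem_map_of_mem (restrictHom φ M hM a).toMonoidHom hx), rfl⟩

/-- A fixed point in a group generated by a permuted family of simple normal subgroups. -/
theorem exists_fixed_of_minimal (φ : A →* MulAut G)
    (hmin : ∀ N : Subgroup G, N.Normal → (∀ a, ∀ x ∈ N, φ a x ∈ N) → N = ⊥ ∨ N = ⊤)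
    (hns : ¬ Group.IsSolvable G) (K : Subgroup A) [K.Normal]
    (hco : (Nat.card K).Coprime (Nat.card G)) (hnil : Group.IsNilpotent (A ⧸ K))
    (hcore : ∀ (S : Subgroup G), IsSimpleGroup S → ¬ IsMulCommutative S →
      (∀ x y : S, orderOf x = 2 → orderOf y = 2 → IsConj x y) ∧ IsCyclic (Cfsg.Out S)) :
    ∃ g : G, g ≠ 1 ∧ ∀ a, φ a g = g := by
  classical
  haveI : Nontrivial G := by
    by_contra h
    haveI := not_nontrivial_iff_subsingleton.1 h
    exact hns inferInstance
  obtain ⟨S, ⟨hSn, hS1⟩, hSmin⟩ := (Set.toFinite {N : Subgroup G | N.Normal ∧ N ≠ ⊥}).exists_minimal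
    ⟨⊤, inferInstance, top_ne_bot⟩
  have hSmin' : ∀ T : Subgroup G, T.Normal → T ≤ S → T = ⊥ ∨ T = S := fun T hT hle => by
    by_cases h : T = ⊥
    · exact Or.inl h
    · exact Or.inr (le_antisymm hle (hSmin ⟨hT, h⟩ hle))
  set f : A → Subgroup G := fun a => S.map (φ a).toMonoidHom with hf
  have hfn : ∀ a, (f a).Normal := fun a => hSn.map _ (φ a).surjective
  have hfcomp : ∀ a b, (f b).map (φ a).toMonoidHom = f (a * b) := fun a b => by
    rw [hf]
    simp only [Subgroup.map_map, map_mul]
    congr 1
  have hfone : f 1 = S := by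
    rw [hf]
    simp only [map_one]
    exact Subgroup.map_id S
  have hdist : ∀ a b, f a ≠ f b → ∀ x ∈ f a, ∀ y ∈ f b, x * y = y * x := by
    intro a b hne x hx y hy
    refine Subgroup.commute_of_normal_of_disjoint _ _ (hfn a) (hfn b) ?_ x y hx hy
    rw [disjoint_iff]
    have key : ∀ c d, f c ⊓ f d = ⊥ ∨ f c ≤ f d := by
      intro c d
      have h1 := hfn c
      have h2 := hfn d
      rcases hSmin' ((f c ⊓ f d).comap (φ c).toMonoidHom) (Subgroup.Normal.comap inferInstance _)
        (fun z hz => by
          obtain ⟨w, hw, hwz⟩ := (mem_inf.1 (mem_comap.1 hz)).1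
          rwa [← (φ c).injective hwz]) with h | h
      · refine Or.inl ?_
        rw [← Subgroup.map_comap_eq_self_of_surjective (f := (φ c).toMonoidHom) (φ c).surjective
          (f c ⊓ f d), h, Subgroup.map_bot]
      · refine Or.inr ?_
        rintro _ ⟨z, hz, rfl⟩
        rw [← h] at hz
        exact (mem_inf.1 (mem_comap.1 hz)).2
    rcases key a b with h | h
    · exact h
    · rcases key b a with h' | h'
      · rwa [inf_comm]
      · exact absurd (le_antisymm h h') hne
  have hgen : ⨆ a, f a = ⊤ := by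
    haveI : ∀ a, (f a).Normal := hfn
    refine (hmin _ inferInstance fun a x hx => ?_).resolve_left fun h => hS1 ?_
    · have h1 : (⨆ b, f b).map (φ a).toMonoidHom ≤ ⨆ b, f b := by
        rw [Subgroup.map_iSup]
        exact iSup_le fun b => (hfcomp a b).le.trans (le_iSup f (a * b))
      exact h1 (Subgroup.mem_map_of_mem _ hx)
    · rw [← hfone]
      exact le_bot_iff.1 (h ▸ le_iSup f 1)
  have hna : ¬ IsMulCommutative S := fun hc => by
    refine hns (Group.isSolvable_of_comm fun x y => ?_)
    have hab : ∀ a, ∀ u ∈ f a, ∀ w ∈ f a, u * w = w * u := by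
      rintro a _ ⟨u, hu, rfl⟩ _ ⟨w, hw, rfl⟩
      rw [← map_mul, ← map_mul]
      exact congrArg (φ a).toMonoidHom (congrArg Subtype.val (hc.is_comm.comm ⟨u, hu⟩ ⟨w, hw⟩))
    have h1 : ∀ a, f a ≤ centralizer ((⨆ b, f b : Subgroup G) : Set G) := fun a => by
      refine Subgroup.le_centralizer_iff.1 (iSup_le fun b u hu => ?_)
      refine mem_centralizer_iff.2 fun w hw => ?_
      by_cases h : f a = f b
      · exact hab b w (h ▸ hw) u hu
      · exact hdist a b h w hw u hu
    have h2 : (⊤ : Subgroup G) ≤ centralizer ((⨆ b, f b : Subgroup G) : Set G) := hgen ▸ iSup_le h1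
    rw [hgen] at h2
    exact (mem_centralizer_iff.1 (h2 (mem_top x)) y trivial).symm
  haveI : Nontrivial S := (Subgroup.nontrivial_iff_ne_bot S).2 hS1
  haveI hsimple : IsSimpleGroup S := ⟨fun T hT => by
    have hn : (T.map S.subtype).Normal := by
      rw [← Subgroup.normalizer_eq_top_iff, eq_top_iff, ← hgen]
      refine iSup_le fun a => ?_
      by_cases h : f a = S
      · rw [h]
        intro s hs
        refine mem_normalizer_iff.2 fun z => ⟨?_, ?_⟩
        · rintro ⟨t, ht, rfl⟩
          exact ⟨⟨s, hs⟩ * t * ⟨s, hs⟩⁻¹, hT.conj_mem t ht _, rfl⟩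
        · rintro ⟨t, ht, htz⟩
          refine ⟨⟨s, hs⟩⁻¹ * t * ⟨s, hs⟩, by simpa using hT.conj_mem t ht ⟨s, hs⟩⁻¹, ?_⟩
          simp only [map_mul, map_inv, Subgroup.coe_subtype] at htz ⊢
          rw [htz]
          group
      · intro s hs
        have hc : ∀ z ∈ S, s * z = z * s := fun z hz =>
          hdist a 1 (by rwa [hfone]) s hs z (by rwa [hfone])
        refine mem_normalizer_iff.2 fun z => ⟨fun hz => ?_, fun hz => ?_⟩
        · rw [hc z (map_subtype_le T hz), mul_inv_cancel_right]
          exact hz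
        · have hzS : z ∈ S := by
            simpa [mul_assoc] using hSn.conj_mem _ (map_subtype_le T hz) s⁻¹
          rw [hc z hzS, mul_inv_cancel_right] at hz
          exact hz
    rcases hSmin' _ hn (map_subtype_le T) with h | h
    · exact Or.inl ((Subgroup.map_eq_bot_iff_of_injective T S.subtype_injective).1 h)
    · refine Or.inr (Subgroup.map_injective S.subtype_injective ?_)
      rw [h, ← MonoidHom.range_eq_map, Subgroup.range_subtype]⟩
  let B : Subgroup A :=
    { carrier := {a | f a = S}
      one_mem' := hfone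
      mul_mem' := fun {a b} ha hb => by
        show f (a * b) = S
        rw [← hfcomp, show f b = S from hb]
        exact ha
      inv_mem' := fun {a} ha => by
        show f a⁻¹ = S
        have h := hfcomp a⁻¹ a
        rw [show f a = S from ha, inv_mul_cancel, hfone] at h
        exact h }
  have hBS : ∀ b : B, ∀ x ∈ S, φ (b : A) x ∈ S := fun b x hx =>
    (show f b = S from b.2).le (Subgroup.mem_map_of_mem _ hx)
  haveI : (K.subgroupOf B).Normal := inferInstance
  have hco' : (Nat.card (K.subgroupOf B)).Coprime (Nat.card S) :=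
    (hco.coprime_dvd_left (Subgroup.card_comap_dvd_of_injective K B.subtype B.subtype_injective)).coprime_dvd_right
      (Subgroup.card_subgroup_dvd_card S)
  haveI := hnil
  haveI : Group.IsNilpotent (B ⧸ K.subgroupOf B) := by
    let g : B ⧸ K.subgroupOf B →* A ⧸ K := QuotientGroup.map _ K B.subtype (fun x hx => hx)
    have hg : Function.Injective g := by
      rw [← MonoidHom.ker_eq_bot_iff, eq_bot_iff]
      intro q hq
      induction q using QuotientGroup.induction_on with
      | H b => exact mem_bot.2 ((QuotientGroup.eq_one_iff b).2 ((QuotientGroup.eq_one_iff (b : A)).1 hq))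
    exact Group.nilpotent_of_mulEquiv (MonoidHom.ofInjective hg).symm
  obtain ⟨hconj, hout⟩ := hcore S hsimple hna
  obtain ⟨s, hs, hsfix⟩ := exists_fixed_simple hna hconj hout (restrictHom (φ.comp B.subtype) S hBS)
    (K.subgroupOf B) hco' inferInstance
  have hsB : ∀ b ∈ B, φ b s = s := fun b hb => congrArg Subtype.val (hsfix ⟨b, hb⟩)
  -- the product over the conjugates
  set D : Subgroup G := closure (Set.range fun a => φ a (s : G)) with hD
  have hmemf : ∀ a, φ a (s : G) ∈ f a := fun a => Subgroup.mem_map_of_mem (φ a).toMonoidHom s.2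
  have hsame : ∀ a b, f a = f b → φ a (s : G) = φ b s := fun a b h => by
    have hm : a⁻¹ * b ∈ B := by
      show f (a⁻¹ * b) = S
      rw [← hfcomp, ← h, hfcomp, inv_mul_cancel, hfone]
    conv_lhs => rw [← hsB _ hm]
    rw [← MulAut.mul_apply, ← map_mul, mul_inv_cancel_left]
  have hDcomm : IsMulCommutative D := by
    refine Subgroup.isMulCommutative_closure ?_
    rintro _ ⟨a, rfl⟩ _ ⟨b, rfl⟩
    by_cases h : f a = f b
    · simp only [hsame a b h]
    · exact hdist a b h _ (hmemf a) _ (hmemf b)
  letI : CommGroup D := { (inferInstance : Group D) with mul_comm := fun a b => hDcomm.is_comm.comm a b }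
  letI : Fintype (A ⧸ B) := Fintype.ofFinite _
  let F : A ⧸ B → D := fun q => Quotient.liftOn' q
    (fun a => (⟨φ a (s : G), subset_closure ⟨a, rfl⟩⟩ : D)) (fun a b h => Subtype.ext (by
      have hm := QuotientGroup.leftRel_apply.1 h
      show φ a (s : G) = φ b s
      conv_lhs => rw [← hsB _ hm]
      rw [← MulAut.mul_apply, ← map_mul, mul_inv_cancel_left]))
  have hFmk : ∀ a : A, ((F (a : A ⧸ B) : D) : G) = φ a s := fun a => rfl
  set P : D := ∏ q, F q with hP
  have hrest : ∀ x ∈ S, x * ((∏ q ∈ Finset.univ.erase ((1 : A) : A ⧸ B), F q : D) : G) =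
      ((∏ q ∈ Finset.univ.erase ((1 : A) : A ⧸ B), F q : D) : G) * x := by
    intro x hx
    refine Finset.prod_induction _ (fun w : D => x * (w : G) = (w : G) * x) (fun u w hu hw => ?_)
      (by simp) fun q hq => ?_
    · push_cast
      rw [← mul_assoc, hu, mul_assoc, hw, mul_assoc]
    · induction q using Quotient.inductionOn' with
      | h a =>
        rw [show (Quotient.mk'' a : A ⧸ B) = (a : A ⧸ B) from rfl, hFmk]
        refine hdist 1 a (fun h => (Finset.mem_erase.1 hq).1 ?_) x (by rwa [hfone]) _ (hmemf a)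
        refine (QuotientGroup.eq.2 ?_)
        show f (a⁻¹ * 1) = S
        rw [← hfcomp, h, hfcomp, inv_mul_cancel, hfone]
  refine ⟨(P : G), fun h1 => hs ?_, fun a => ?_⟩
  · have hPs : (s : G) * ((∏ q ∈ Finset.univ.erase ((1 : A) : A ⧸ B), F q : D) : G) = 1 := by
      rw [← h1, hP, ← Finset.mul_prod_erase _ _ (Finset.mem_univ ((1 : A) : A ⧸ B)), Subgroup.coe_mul, hFmk,
        map_one, MulAut.one_apply]
    have hscen : s ∈ center S := mem_center_iff.2 fun x => Subtype.ext (by
      have h2 := hrest x x.2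
      rw [eq_inv_of_mul_eq_one_right hPs] at h2
      show (x : G) * s = s * x
      calc (x : G) * s = s * ((s : G)⁻¹ * x) * s := by group
        _ = s * ((x : G) * (s : G)⁻¹) * s := by rw [h2]
        _ = s * x := by group)
    rcases IsSimpleGroup.eq_bot_or_eq_top_of_normal (center S) inferInstance with h | h
    · rwa [h, mem_bot] at hscen
    · exact absurd ⟨⟨fun u w => (mem_center_iff.1 (h ▸ mem_top w : w ∈ center S) u)⟩⟩ hna
  · let act : D →* G := (φ a).toMonoidHom.comp D.subtype
    have h1 : act P = ((∏ q, F (a • q) : D) : G) := by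
      have key : ∀ (T : Finset (A ⧸ B)), act (∏ q ∈ T, F q) = ((∏ q ∈ T, F (a • q) : D) : G) := by
        intro T
        induction T using Finset.induction_on with
        | empty => simp [act]
        | @insert q T hq ih =>
          rw [Finset.prod_insert hq, Finset.prod_insert hq, map_mul, ih, Subgroup.coe_mul]
          congr 1
          induction q using Quotient.inductionOn' with
          | h b =>
            show φ a (φ b (s : G)) = φ (a * b) s
            rw [map_mul, MulAut.mul_apply]
      exact key Finset.univ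
    show act P = P
    exact h1.trans (congrArg Subtype.val (Equiv.prod_comp (MulAction.toPerm a) F))

/-- An `S₃`-free group with fixed-point-free operators having a normal coprime part with nilpotent
quotient is solvable. -/
theorem solvable_of_fpf (hGS : GoldschmidtSimple.{u}) : ∀ (n : ℕ) (G : Type u) [Group G] [Finite G],
    Nat.card G = n → ¬ Involves (Equiv.Perm (Fin 3)) G → ∀ (φ : A →* MulAut G),
    (∀ g : G, (∀ a, φ a g = g) → g = 1) → ∀ (K : Subgroup A) [K.Normal],
    (Nat.card K).Coprime (Nat.card G) → Group.IsNilpotent (A ⧸ K) → Group.IsSolvable G := by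
  intro n
  induction n using Nat.strong_induction_on with
  | _ n ih =>
  intro G _ _ hn hfree φ hfpf K _ hco hnil
  by_contra hns
  -- a proper invariant normal subgroup would be abelian, and the quotient inherits the hypotheses
  have hmin : ∀ N : Subgroup G, N.Normal → (∀ a, ∀ x ∈ N, φ a x ∈ N) → N = ⊥ ∨ N = ⊤ := by
    by_contra hc
    push Not at hc
    obtain ⟨N0, hN0n, hN0i, hN0b, hN0t⟩ := hc
    obtain ⟨M, ⟨hMn, hMi, hMb, hMt⟩, hMmin⟩ := (Set.toFinite
      {N : Subgroup G | N.Normal ∧ (∀ a, ∀ x ∈ N, φ a x ∈ N) ∧ N ≠ ⊥ ∧ N ≠ ⊤}).exists_minimal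
      ⟨N0, hN0n, hN0i, hN0b, hN0t⟩
    haveI := hMn
    have hlt : Nat.card M < n := by
      rw [← hn]
      exact lt_of_le_of_ne (Nat.le_of_dvd Nat.card_pos (Subgroup.card_subgroup_dvd_card M))
        fun e => hMt ((Subgroup.card_eq_iff_eq_top M).1 e)
    haveI hMsol : Group.IsSolvable M := ih _ hlt M rfl
      (fun h => hfree (CfsgLib.LocalEven.Involved.involves_of_subgroup h)) (restrictHom φ M hMi)
      (fun g hg => Subtype.ext (hfpf g fun a => congrArg Subtype.val (hg a))) K
      (hco.coprime_dvd_right (Subgroup.card_subgroup_dvd_card M)) hnil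
    haveI : Nontrivial M := (Subgroup.nontrivial_iff_ne_bot M).2 hMb
    have hchar : ∀ C : Subgroup M, C.Characteristic → C = ⊥ ∨ C = ⊤ := fun C hC => by
      haveI := hC
      by_cases hb : C = ⊥
      · exact Or.inl hb
      refine Or.inr (Subgroup.map_injective M.subtype_injective ?_)
      rw [← MonoidHom.range_eq_map, Subgroup.range_subtype]
      refine le_antisymm (map_subtype_le C) (hMmin ⟨ConjAct.normal_of_characteristic_of_normal,
        map_inv_char φ hMi C, fun e => hb ((Subgroup.map_eq_bot_iff_of_injective C M.subtype_injective).1 e),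
        fun e => hMt (top_le_iff.1 (e ▸ map_subtype_le C))⟩ (map_subtype_le C))
    haveI hMc : IsMulCommutative M := by
      have h1 : commutator M = ⊥ := (hchar _ inferInstance).resolve_right
        (Group.IsSolvable.commutator_lt_top_of_nontrivial M).ne
      exact ⟨⟨fun a b => commutatorElement_eq_one_iff_mul_comm.1 (mem_bot.1 (h1 ▸
        commutator_mem_commutator (mem_top a) (mem_top b)))⟩⟩
    obtain ⟨p, hp, hpM⟩ := Nat.exists_prime_and_dvd (fun h => hMb (M.eq_bot_of_card_eq h))
    haveI := Fact.mk hp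
    have hexp : ∀ x ∈ M, x ^ p = 1 := by
      let Ω : Subgroup M :=
        { carrier := {x | x ^ p = 1}
          one_mem' := one_pow p
          mul_mem' := fun {a b} (ha : a ^ p = 1) (hb : b ^ p = 1) =>
            show (a * b) ^ p = 1 by rw [Commute.mul_pow (hMc.is_comm.comm a b), ha, hb, mul_one]
          inv_mem' := fun {a} (ha : a ^ p = 1) => show a⁻¹ ^ p = 1 by rw [inv_pow, ha, inv_one] }
      haveI : Ω.Characteristic := Subgroup.characteristic_iff_le_comap.2 fun e x (hx : x ^ p = 1) =>
        show e x ^ p = 1 by rw [← map_pow, hx, map_one]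
      intro x hx
      rcases hchar Ω inferInstance with h | h
      · obtain ⟨z, hz⟩ := exists_prime_orderOf_dvd_card' p hpM
        have : z ∈ Ω := show z ^ p = 1 by rw [← hz]; exact pow_orderOf_eq_one z
        rw [h, mem_bot] at this
        rw [this, orderOf_one] at hz
        exact absurd hz.symm hp.ne_one
      · have : (⟨x, hx⟩ : M) ∈ Ω := h ▸ mem_top _
        exact congrArg Subtype.val (show (⟨x, hx⟩ : M) ^ p = 1 from this)
    have hpK : ¬ p ∣ Nat.card K := fun h =>
      hp.ne_one (Nat.eq_one_of_dvd_coprimes hco h (hpM.trans (Subgroup.card_subgroup_dvd_card M)))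
    have hlt' : Nat.card (G ⧸ M) < n := by
      have h1 := Subgroup.card_mul_index M
      have h2 : 1 < Nat.card M := Finite.one_lt_card
      rw [← hn, ← h1, show Nat.card (G ⧸ M) = M.index from rfl]
      exact lt_mul_left (Nat.pos_of_ne_zero Subgroup.index_ne_zero_of_finite) h2
    haveI : Group.IsSolvable (G ⧸ M) := ih _ hlt' (G ⧸ M) rfl
      (fun h => hfree (CfsgLib.LocalEven.Involved.involves_of_surjective _ (QuotientGroup.mk'_surjective M) h))
      (quotHom φ M hMi) (fun q hq => by
        induction q using QuotientGroup.induction_on with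
        | H x =>
          refine (QuotientGroup.eq_one_iff x).2 (mem_of_quot_fixed φ hfpf K hpK hnil M hexp hMi fun a => ?_)
          exact QuotientGroup.eq.1 (hq a).symm) K
      (hco.coprime_dvd_right (Subgroup.card_quotient_dvd_card M)) hnil
    exact hns (Group.isSolvable_of_ker_le_range M.subtype (QuotientGroup.mk' M)
      (by rw [QuotientGroup.ker_mk', Subgroup.range_subtype]))
  obtain ⟨g, hg, hfix⟩ := exists_fixed_of_minimal φ hmin hns K hco hnil fun S hS hna => by
    haveI := hS
    exact facts_of_target hna (target_of_three_free hGS hna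
      (fun h => hfree (CfsgLib.LocalEven.Involved.involves_of_subgroup h)))
  exact hg (hfpf g hfix)

omit [Finite A] in
theorem sFour_iff (hGS : GoldschmidtSimple.{u}) [IsSimpleGroup G] (hna : ¬ IsMulCommutative G) :
    ¬ Cfsg.Involves (Equiv.Perm (Fin 4)) G ↔ Cfsg.IsGoldschmidtGroup G :=
  ⟨goldschmidt_of_four_free hGS hna, fun h => (Cfsg.Agent.S2755.result h).1⟩

theorem sylow_three_consequences (hGS : GoldschmidtSimple.{u}) (T : Sylow 3 G)
    (h : ∀ x ∈ (T : Subgroup G), x ≠ 1 →
      ∀ g ∈ normalizer (Cfsg.centerThompsonAOf (T : Subgroup G) : Set G), g * x * g⁻¹ ≠ x⁻¹) :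
    ¬ Cfsg.Involves (Equiv.Perm (Fin 3)) G ∧
      Cfsg.IsCompositionKGroupWith Cfsg.IsSuzukiOrPSL2OddPowerThree G :=
  ⟨three_free_of_zj T h, fun H _ N _ => kGroupWith_of_three_free hGS (three_free_of_zj T h) H N⟩

theorem three_irrational (hGS : GoldschmidtSimple.{u}) [IsSimpleGroup G] (hna : ¬ IsMulCommutative G)
    (hirr : ∀ x : G, (∀ r : ℕ, r.Prime → r ∣ orderOf x → r = 3) →
      normalizer ((zpowers x : Subgroup G) : Set G) ≤ centralizer {x}) :
    (∃ f : ℕ, 1 ≤ f ∧
      Nonempty (G ≃* Matrix.ProjectiveSpecialLinearGroup (Fin 2) (GaloisField 3 (2 * f + 1)))) ∨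
    Cfsg.IsSuzuki G :=
  conclusion_of_target hna (target_of_three_free hGS hna (three_free_of_irreal hirr))

theorem solvable_of_operators (hGS : GoldschmidtSimple.{u}) (φ : A →* MulAut G)
    (hfpf : ∀ g : G, (∀ a : A, φ a g = g) → g = 1)
    (hS3 : ¬ Cfsg.Involves (Equiv.Perm (Fin 3)) G)
    (hHall : ∃ H : Subgroup A, Cfsg.IsPiHall {r : ℕ | r.Prime ∧ r ∣ Nat.card G} H ∧ Group.IsNilpotent H)
    (hcomp : ∃ K : Subgroup A, K.Normal ∧ (∀ r : ℕ, r.Prime → r ∣ Nat.card K → ¬ r ∣ Nat.card G) ∧
      ∀ r : ℕ, r.Prime → r ∣ K.index → r ∣ Nat.card G) :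
    Group.IsSolvable G := by
  obtain ⟨H, ⟨hH1, hH2⟩, hHn⟩ := hHall
  obtain ⟨K, hKn, hK1, hK2⟩ := hcomp
  haveI := hKn
  haveI := hHn
  refine solvable_of_fpf hGS _ G rfl hS3 φ hfpf K
    (Nat.coprime_of_dvd fun r hr h1 h2 => hK1 r hr h1 h2) ?_
  refine Group.nilpotent_of_surjective ((QuotientGroup.mk' K).comp H.subtype) ?_
  rw [← MonoidHom.range_eq_top, MonoidHom.range_comp, Subgroup.range_subtype]
  refine Subgroup.index_eq_one.1 (Nat.eq_one_of_dvd_coprimes
    (Nat.coprime_of_dvd fun r hr h1 h2 => hH2 r hr ⟨hr, hK2 r hr h2⟩ h1)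
    (Subgroup.index_map_dvd H (QuotientGroup.mk'_surjective K))
    ((Subgroup.index_dvd_card _).trans dvd_rfl))

end CfsgLib.GoldCons74
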