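import Cfsg.Agent.Lib.GoldCons74.Inverted
import Cfsg.Agent.Lib.SuzukiGroup.Solvabilizer
import Cfsg.Agent.Lib.SuzukiGroup.Automorphisms
import Cfsg.Agent.Lib.PSL2.Involution
import Cfsg.Agent.Lib.AutPSL.FieldGalois
import Cfsg.Agent.S2602

/-!
Suzuki groups and `PSL₂(3^odd)`: one class of involutions and a cyclic outer automorphism group.
-/

set_option autoImplicit false
set_option linter.style.haveILetI false

namespace CfsgLib.GoldCons74

open Subgroup Cfsg

universe u

/-- A group with a central kernel of order two over a cyclic group of odd order is cyclic. -/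
theorem isCyclic_of_double {O : Type*} [Group O] [Finite O] {f : ℕ} (hf : Odd f)
    (φ : O →* Multiplicative (ZMod f)) (hφ : Function.Surjective φ) (hk : Nat.card φ.ker = 2) :
    IsCyclic O := by
  obtain ⟨a, ha⟩ := hφ (Multiplicative.ofAdd 1)
  have hcard : Nat.card O = f * 2 := by
    rw [← φ.ker.index_mul_card, hk, Subgroup.index_ker, φ.range_eq_top.2 hφ, Subgroup.card_top,
      show Nat.card (Multiplicative (ZMod f)) = f from Nat.card_zmod f]
  have hfa : f ∣ orderOf a := by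
    have := orderOf_map_dvd φ a
    rwa [ha, orderOf_ofAdd_eq_addOrderOf, ZMod.addOrderOf_one] at this
  obtain ⟨z, hz⟩ : ∃ z : φ.ker, orderOf z = 2 := by
    haveI : Fact (Nat.Prime 2) := ⟨Nat.prime_two⟩
    exact exists_prime_orderOf_dvd_card' 2 (by rw [hk])
  rw [← Subgroup.orderOf_coe] at hz
  have hzc : ∀ g : O, g * z * g⁻¹ = z := fun g => by
    have hne : g * (z : O) * g⁻¹ ≠ 1 := fun e => by
      rw [conj_eq_one_iff] at e
      rw [e, orderOf_one] at hz
      omega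
    have hz1 : (z : O) ≠ 1 := fun e => by rw [e, orderOf_one] at hz; omega
    by_contra hne2
    have h3 : ({1, (z : O), g * z * g⁻¹} : Set O) ⊆ (φ.ker : Set O) := by
      rintro x (rfl | rfl | rfl)
      exacts [one_mem _, z.2, (inferInstance : φ.ker.Normal).conj_mem _ z.2 g]
    have := Set.ncard_le_ncard h3 (Set.toFinite _)
    rw [Set.ncard_eq_three.2 ⟨_, _, _, Ne.symm hz1, Ne.symm hne, Ne.symm hne2, rfl⟩,
      show (φ.ker : Set O).ncard = 2 from hk] at this
    omega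
  have hpos := orderOf_pos a
  rcases Nat.even_or_odd (orderOf a) with he | ho
  · refine isCyclic_of_orderOf_eq_card a ?_
    refine Nat.dvd_antisymm (orderOf_dvd_natCard a) (hcard ▸ ?_)
    exact Nat.Coprime.mul_dvd_of_dvd_of_dvd (Nat.coprime_two_right.2 hf) hfa (even_iff_two_dvd.1 he)
  · have hof : orderOf a = f := by
      refine Nat.dvd_antisymm ?_ hfa
      exact (Nat.coprime_two_right.2 ho).dvd_of_dvd_mul_right (hcard ▸ orderOf_dvd_natCard a)
    refine isCyclic_of_orderOf_eq_card (a * z) ?_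
    have hcomm : Commute a z := mul_inv_eq_iff_eq_mul.1 (hzc a)
    rw [hcomm.orderOf_mul_eq_mul_orderOf_of_coprime (by rw [hof, hz]; exact Nat.coprime_two_right.2 hf),
      hof, hz, hcard]

theorem isCyclic_out_sz {F : Type*} [Field F] [Fintype F] {m : ℕ} (hm : 1 ≤ m)
    (hF : Fintype.card F = 2 ^ (2 * m + 1)) : IsCyclic (Cfsg.Out ↥(Cfsg.Lie.Sz F (2 ^ (m + 1)))) := by
  haveI : Fact (Nat.Prime 2) := ⟨Nat.prime_two⟩
  obtain ⟨hchar, ⟨P⟩⟩ := CfsgLib.SuzukiGroup.exists_params hF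
  haveI := hchar
  haveI := CfsgLib.FieldGalois.isCyclic_ringAut (F := F)
  refine isCyclic_of_surjective ((QuotientGroup.mk' _).comp (CfsgLib.SuzukiGroup.fieldAut P) :
    (F ≃+* F) →* Cfsg.Out ↥(Cfsg.Lie.Sz F (2 ^ (m + 1)))) ?_
  intro q
  induction q using QuotientGroup.induction_on with
  | H α =>
    obtain ⟨g, hg⟩ := CfsgLib.SuzukiGroup.exists_normalised hm hF P α
    obtain ⟨σ, hσ⟩ := CfsgLib.SuzukiGroup.normalised_eq_fieldAut hm hF P hg
    refine ⟨σ, QuotientGroup.eq.2 ?_⟩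
    have hmem : (MulAut.conj g)⁻¹ ∈ Cfsg.Inn ↥(Cfsg.Lie.Sz F (2 ^ (m + 1))) := inv_mem ⟨g, rfl⟩
    have hc := (Cfsg.innNormal ↥(Cfsg.Lie.Sz F (2 ^ (m + 1)))).conj_mem _ hmem α⁻¹
    rwa [inv_inv, mul_assoc, ← mul_assoc α⁻¹, ← mul_inv_rev, hσ] at hc

theorem isConj_sz {F : Type*} [Field F] [Fintype F] {m : ℕ}
    (hF : Fintype.card F = 2 ^ (2 * m + 1)) {u v : ↥(Cfsg.Lie.Sz F (2 ^ (m + 1)))}
    (hu : orderOf u = 2) (hv : orderOf v = 2) : IsConj u v := by
  haveI : Fact (Nat.Prime 2) := ⟨Nat.prime_two⟩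
  obtain ⟨hchar, ⟨P⟩⟩ := CfsgLib.SuzukiGroup.exists_params hF
  haveI := hchar
  have key : ∀ w : ↥(Cfsg.Lie.Sz F (2 ^ (m + 1))), orderOf w = 2 →
      ∃ k, k * w * k⁻¹ ∈ CfsgLib.SuzukiGroup.unip P := fun w hw => by
    obtain ⟨T, hT⟩ := (IsPGroup.of_card (p := 2) (n := 1) (G := zpowers w)
      (by rw [Nat.card_zpowers, hw, pow_one])).exists_le_sylow
    obtain ⟨k, hk⟩ := MulAction.exists_smul_eq ↥(Cfsg.Lie.Sz F (2 ^ (m + 1))) T (CfsgLib.SuzukiGroup.sylowTwo P)
    refine ⟨k, ?_⟩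
    rw [← CfsgLib.SuzukiGroup.coe_sylowTwo P, ← hk]
    exact ⟨w, hT (mem_zpowers w), rfl⟩
  exact CfsgLib.SuzukiGroup.isConj_involutions P hu hv (key u hu) (key v hv)

/-- Isomorphic groups have isomorphic automorphism groups, compatibly with inner automorphisms. -/
theorem isCyclic_out_congr {X Y : Type*} [Group X] [Group Y] (e : X ≃* Y) (h : IsCyclic (Cfsg.Out Y)) :
    IsCyclic (Cfsg.Out X) := by
  have hI : (Cfsg.Inn Y).map (MulAut.congr e.symm).toMonoidHom = Cfsg.Inn X := by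
    ext α
    constructor
    · rintro ⟨_, ⟨y, rfl⟩, rfl⟩
      exact ⟨e.symm y, MulEquiv.ext fun x => by simp⟩
    · rintro ⟨x, rfl⟩
      exact ⟨MulAut.conj (e x), ⟨e x, rfl⟩, MulEquiv.ext fun x => by simp⟩
  exact isCyclic_of_surjective (QuotientGroup.congr (Cfsg.Inn Y) (Cfsg.Inn X) (MulAut.congr e.symm) hI)
    (MulEquiv.surjective _)

/-- The two properties used of the target groups. -/
theorem facts_of_target {X : Type u} [Group X] [Finite X] [IsSimpleGroup X]
    (hna : ¬ IsMulCommutative X) (h : IsSuzukiOrPSL2OddPowerThree X) :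
    (∀ x y : X, orderOf x = 2 → orderOf y = 2 → IsConj x y) ∧ IsCyclic (Cfsg.Out X) := by
  rcases h with ⟨F, _, _, m, hm, hF, ⟨e⟩⟩ | ⟨F, _, _, n, hF, ⟨e⟩⟩
  · refine ⟨fun x y hx hy => ?_, isCyclic_out_congr e (isCyclic_out_sz hm hF)⟩
    simpa using e.symm.toMonoidHom.map_isConj (isConj_sz hF
      ((orderOf_injective e.toMonoidHom e.injective x).trans hx)
      ((orderOf_injective e.toMonoidHom e.injective y).trans hy))
  · haveI : Fact (Nat.Prime 3) := ⟨Nat.prime_three⟩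
    haveI : CharP F 3 := charP_of_card_eq_prime_pow hF
    have h2 : (2 : F) ≠ 0 := fun h0 => by
      have := (CharP.cast_eq_zero_iff F 3 2).1 (by exact_mod_cast h0)
      omega
    refine ⟨fun x y hx hy => ?_, isCyclic_out_congr e ?_⟩
    · simpa using e.symm.toMonoidHom.map_isConj (CfsgLib.PSL2.isConj_of_orderOf_two h2
        ((orderOf_injective e.toMonoidHom e.injective x).trans hx)
        ((orderOf_injective e.toMonoidHom e.injective y).trans hy))
    · have h1 := one_le_of_psl hna hF e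
      have hodd : Odd (3 ^ (2 * n + 1)) := Odd.pow (by decide)
      have h4 : 4 ≤ 3 ^ (2 * n + 1) := le_trans (by norm_num : 4 ≤ 3 ^ 2)
        (Nat.pow_le_pow_right (by norm_num) (by omega))
      obtain ⟨φ, hφ, -, hk⟩ := Cfsg.Agent.S2602.result (by omega) hF h4
      refine isCyclic_of_double ⟨n, rfl⟩ φ hφ (hk.trans ?_)
      refine Nat.gcd_eq_left ?_
      obtain ⟨k, hk⟩ := hodd
      omega

end CfsgLib.GoldCons74
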